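import Cfsg.Agent.Lib.PermComp.OutP.Master3
import Cfsg.Agent.Lib.PermComp.OutP.HSo.DataP0

set_option autoImplicit false
set_option maxRecDepth 100000
set_option maxHeartbeats 0

namespace Cfsg.Agent.Lib.PermComp.OutP.HSo

open Cfsg Cfsg.Agent.Lib.PermComp.OutP
open Cfsg.Agent.Lib.PermComp.Core (force)
open Cfsg.Agent.Lib.PermComp.Kron (rangeAll rangeAll_spec)

def n : Nat := 100
def mF : Nat := 52
noncomputable def TT_T : Nat := (Nat.lor TT_p0 (Nat.shiftLeft (Nat.lor TT_p1 (Nat.shiftLeft TT_p2 15995)) 15995))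
noncomputable def TT_M1 : Nat := Nat.sub (Nat.shiftLeft 1 3584) 1
noncomputable def TT_M2 : Nat := Nat.sub (Nat.shiftLeft 1 448) 1
noncomputable def TT (p : Nat) : Nat :=
  force (Nat.shiftRight p 9) fun b1 => force (Nat.land (Nat.shiftRight p 6) 7) fun b2 =>
    Nat.land (Nat.shiftRight (Nat.land (Nat.shiftRight (Nat.land (Nat.shiftRight TT_T (Nat.mul b1 3584)) TT_M1) (Nat.mul b2 448)) TT_M2) (Nat.mul (Nat.land p 63) 7)) 127

noncomputable def F (g p : Nat) : Nat := TT (Nat.add (Nat.mul g 100) p)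

def progL : List (List Nat) := [
  [],
  [],
  [0, 0, 0, 0, 0, 0, 0, 1, 0, 0, 0, 0, 0, 0, 1, 1, 1, 1, 0, 1, 1, 1, 0],
  [0, 1, 0, 0, 0, 1, 0, 0, 1, 0, 0, 1, 0, 0, 1, 0, 1, 1],
  [2, 3, 3, 2, 3, 3, 3, 2, 3, 2, 3, 3, 2],
  [3, 3, 3, 3, 3, 2, 3, 2, 2, 2, 2, 3, 3, 3, 2, 3],
  [2, 2, 2, 3, 2, 2, 2, 2, 2, 3, 2, 2, 3, 2, 2, 2],
  [4, 5, 4, 4, 6, 5, 5, 4, 6, 4, 4, 6, 6, 4, 5],
  [4, 5, 6, 4, 6, 6, 4, 4, 6, 4, 4, 5, 5, 4, 6, 4],
  [8, 7, 7, 7, 7, 7, 8, 8, 7, 8, 7, 7, 7, 8, 8, 8],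
  [8, 7, 7, 7, 7, 7, 7, 8, 7, 7, 8, 7],
  [0, 1, 1, 1, 0, 0, 1, 0, 0, 0, 1, 0],
  [11, 11, 11, 11, 11, 11, 11, 11, 11, 11],
  [1, 12, 1, 11],
  [1, 0, 1, 0, 1, 0, 0, 1, 0, 0, 0, 0],
  [14, 14, 14, 14, 14, 14, 14],
  [1, 15, 1, 14],
  [11, 13, 13],
  [14, 16, 16],
  [18, 18, 18, 18, 17, 17, 18, 18, 18, 17, 17, 18, 17, 17],
  [18, 17, 17, 17, 17, 18, 17, 18, 18, 18, 18, 18, 18, 17, 18, 17],
  [18, 17, 17, 17, 18, 17, 17, 17, 17, 18, 17, 18],
  [17, 18, 18, 18, 18, 18, 18, 18, 17, 18, 18, 18, 18, 17, 18, 18, 18, 18, 17],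
  [19, 21, 20, 19, 20, 22, 19, 20, 20, 21, 19, 22, 21, 22, 22],
  [21, 20, 21, 22, 22, 21, 19, 21, 21, 22, 22, 21, 21, 21],
  [1, 0, 1, 1, 1, 0, 1, 0, 0, 1, 0, 0],
  [1, 1, 1, 1, 0, 0, 1, 1, 1, 1, 0, 1],
  [1, 1, 1, 1, 1, 1, 0, 0, 1, 0, 0, 0],
  [0, 1, 1, 0, 1, 0, 1, 0, 0, 1, 0, 1],
  [1, 0, 1, 1, 0, 1, 1, 0, 1, 0, 1, 1],
  [1, 0, 1, 0, 0, 0, 0, 0, 1, 1, 0, 1],
  [1, 0, 1, 0, 1, 1, 0, 0, 0, 1, 0, 1],
  [0, 0, 1, 0, 0, 0, 0, 1, 1, 0, 1, 1],
  [25, 25, 25, 25, 25],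
  [26, 26, 26, 26, 26],
  [27, 27, 27],
  [28, 28, 28],
  [29, 29, 29, 29, 29],
  [30, 30, 30, 30, 30, 30, 30, 30, 30, 30],
  [31, 31],
  [32, 32, 32, 32, 32, 32, 32, 32, 32, 32],
  [10, 8, 7, 7, 4, 5, 6, 4, 5],
  [9, 5, 6, 4],
  [10, 7, 7, 8, 7, 6, 4, 3, 2, 3, 3, 2, 3],
  [9, 8, 7, 7, 7, 5, 6, 5, 2, 3, 3, 2, 3, 3, 2],
  [10, 8, 8, 8, 5, 6, 6, 5, 2, 3, 2, 2, 2],
  [9, 7, 7, 8, 4, 6, 4, 5, 3, 3, 3, 2, 2, 2, 1, 0, 0, 0, 0, 0, 0],
  [10, 4, 5, 5, 3, 3, 2, 3, 2, 0, 0, 0, 1, 0, 0, 0, 0, 0, 0],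
  [10, 8, 7, 7, 8, 5, 6, 6, 4, 2, 3, 3, 3, 2, 3, 0, 1, 0],
  [7, 5, 6, 4, 3, 3, 3, 0, 0, 0, 0, 1, 0, 0],
  [10, 7, 7, 7, 4, 5, 6, 6, 3, 2, 2, 2, 3, 3, 1, 0, 0, 0, 0, 1, 0, 0],
  [42, 45, 47]]
def prog (g : Nat) : List Nat := progL.getD g []

def prog2L : List (List Nat) := [
  [],
  [],
  [52, 53, 52, 52, 52, 52, 53, 53, 52, 53, 52, 52, 52, 53, 52, 52, 52, 52, 53, 53, 53, 52, 53, 53, 52, 53, 52, 52, 52, 53, 52, 53, 53, 52, 52, 52, 53, 52, 53, 53],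
  [54],
  [53, 52, 53, 53, 53, 52, 53, 52, 52, 52, 52, 52],
  [56, 56, 56, 56, 56],
  [52, 53, 53, 52, 53, 53, 52, 53, 53, 53, 52, 53],
  [58, 58, 58],
  [53, 52, 52, 53, 53, 53, 53, 53, 53, 53, 52, 52, 53, 53, 53, 52, 53, 52, 53, 52, 53, 53, 52, 52, 52, 53, 52, 53, 52, 53, 53, 52, 53, 52, 52, 53, 53, 52, 52, 53],
  [60, 60, 60, 60],
  [57, 59, 57, 61, 57, 59, 57]]
def prog2 (g : Nat) : List Nat := prog2L.getD (g - 52) []

noncomputable def dL0_pt_T : Nat := dL0_pt_p0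
noncomputable def dL0_pt_M1 : Nat := Nat.sub (Nat.shiftLeft 1 28672) 1
noncomputable def dL0_pt_M2 : Nat := Nat.sub (Nat.shiftLeft 1 224) 1
noncomputable def dL0_pt (p : Nat) : Nat :=
  force (Nat.shiftRight p 12) fun b1 => force (Nat.land (Nat.shiftRight p 5) 127) fun b2 =>
    Nat.land (Nat.shiftRight (Nat.land (Nat.shiftRight (Nat.land (Nat.shiftRight dL0_pt_T (Nat.mul b1 28672)) dL0_pt_M1) (Nat.mul b2 224)) dL0_pt_M2) (Nat.mul (Nat.land p 31) 7)) 127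

noncomputable def dL0_pi_T : Nat := dL0_pi_p0
noncomputable def dL0_pi_M1 : Nat := Nat.sub (Nat.shiftLeft 1 28672) 1
noncomputable def dL0_pi_M2 : Nat := Nat.sub (Nat.shiftLeft 1 224) 1
noncomputable def dL0_pi (p : Nat) : Nat :=
  force (Nat.shiftRight p 12) fun b1 => force (Nat.land (Nat.shiftRight p 5) 127) fun b2 =>
    Nat.land (Nat.shiftRight (Nat.land (Nat.shiftRight (Nat.land (Nat.shiftRight dL0_pi_T (Nat.mul b1 28672)) dL0_pi_M1) (Nat.mul b2 224)) dL0_pi_M2) (Nat.mul (Nat.land p 31) 7)) 127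

noncomputable def dL0_tr_T : Nat := dL0_tr_p0
noncomputable def dL0_tr_M1 : Nat := Nat.sub (Nat.shiftLeft 1 32768) 1
noncomputable def dL0_tr_M2 : Nat := Nat.sub (Nat.shiftLeft 1 256) 1
noncomputable def dL0_tr (p : Nat) : Nat :=
  force (Nat.shiftRight p 12) fun b1 => force (Nat.land (Nat.shiftRight p 5) 127) fun b2 =>
    Nat.land (Nat.shiftRight (Nat.land (Nat.shiftRight (Nat.land (Nat.shiftRight dL0_tr_T (Nat.mul b1 32768)) dL0_tr_M1) (Nat.mul b2 256)) dL0_tr_M2) (Nat.mul (Nat.land p 31) 8)) 255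

noncomputable def dL0 : LevD := ⟨0, 100, 2, 0, dL0_pt, dL0_pi, dL0_tr⟩

noncomputable def dL1_pt_T : Nat := dL1_pt_p0
noncomputable def dL1_pt_M1 : Nat := Nat.sub (Nat.shiftLeft 1 28672) 1
noncomputable def dL1_pt_M2 : Nat := Nat.sub (Nat.shiftLeft 1 224) 1
noncomputable def dL1_pt (p : Nat) : Nat :=
  force (Nat.shiftRight p 12) fun b1 => force (Nat.land (Nat.shiftRight p 5) 127) fun b2 =>
    Nat.land (Nat.shiftRight (Nat.land (Nat.shiftRight (Nat.land (Nat.shiftRight dL1_pt_T (Nat.mul b1 28672)) dL1_pt_M1) (Nat.mul b2 224)) dL1_pt_M2) (Nat.mul (Nat.land p 31) 7)) 127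

noncomputable def dL1_pi_T : Nat := dL1_pi_p0
noncomputable def dL1_pi_M1 : Nat := Nat.sub (Nat.shiftLeft 1 28672) 1
noncomputable def dL1_pi_M2 : Nat := Nat.sub (Nat.shiftLeft 1 224) 1
noncomputable def dL1_pi (p : Nat) : Nat :=
  force (Nat.shiftRight p 12) fun b1 => force (Nat.land (Nat.shiftRight p 5) 127) fun b2 =>
    Nat.land (Nat.shiftRight (Nat.land (Nat.shiftRight (Nat.land (Nat.shiftRight dL1_pi_T (Nat.mul b1 28672)) dL1_pi_M1) (Nat.mul b2 224)) dL1_pi_M2) (Nat.mul (Nat.land p 31) 7)) 127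

noncomputable def dL1_tr_T : Nat := dL1_tr_p0
noncomputable def dL1_tr_M1 : Nat := Nat.sub (Nat.shiftLeft 1 28672) 1
noncomputable def dL1_tr_M2 : Nat := Nat.sub (Nat.shiftLeft 1 224) 1
noncomputable def dL1_tr (p : Nat) : Nat :=
  force (Nat.shiftRight p 12) fun b1 => force (Nat.land (Nat.shiftRight p 5) 127) fun b2 =>
    Nat.land (Nat.shiftRight (Nat.land (Nat.shiftRight (Nat.land (Nat.shiftRight dL1_tr_T (Nat.mul b1 28672)) dL1_tr_M1) (Nat.mul b2 224)) dL1_tr_M2) (Nat.mul (Nat.land p 31) 7)) 127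

noncomputable def dL1 : LevD := ⟨1, 77, 2, 2, dL1_pt, dL1_pi, dL1_tr⟩

noncomputable def dL2_pt_T : Nat := dL2_pt_p0
noncomputable def dL2_pt_M1 : Nat := Nat.sub (Nat.shiftLeft 1 28672) 1
noncomputable def dL2_pt_M2 : Nat := Nat.sub (Nat.shiftLeft 1 224) 1
noncomputable def dL2_pt (p : Nat) : Nat :=
  force (Nat.shiftRight p 12) fun b1 => force (Nat.land (Nat.shiftRight p 5) 127) fun b2 =>
    Nat.land (Nat.shiftRight (Nat.land (Nat.shiftRight (Nat.land (Nat.shiftRight dL2_pt_T (Nat.mul b1 28672)) dL2_pt_M1) (Nat.mul b2 224)) dL2_pt_M2) (Nat.mul (Nat.land p 31) 7)) 127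

noncomputable def dL2_pi_T : Nat := dL2_pi_p0
noncomputable def dL2_pi_M1 : Nat := Nat.sub (Nat.shiftLeft 1 24576) 1
noncomputable def dL2_pi_M2 : Nat := Nat.sub (Nat.shiftLeft 1 192) 1
noncomputable def dL2_pi (p : Nat) : Nat :=
  force (Nat.shiftRight p 12) fun b1 => force (Nat.land (Nat.shiftRight p 5) 127) fun b2 =>
    Nat.land (Nat.shiftRight (Nat.land (Nat.shiftRight (Nat.land (Nat.shiftRight dL2_pi_T (Nat.mul b1 24576)) dL2_pi_M1) (Nat.mul b2 192)) dL2_pi_M2) (Nat.mul (Nat.land p 31) 6)) 63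

noncomputable def dL2_tr_T : Nat := dL2_tr_p0
noncomputable def dL2_tr_M1 : Nat := Nat.sub (Nat.shiftLeft 1 28672) 1
noncomputable def dL2_tr_M2 : Nat := Nat.sub (Nat.shiftLeft 1 224) 1
noncomputable def dL2_tr (p : Nat) : Nat :=
  force (Nat.shiftRight p 12) fun b1 => force (Nat.land (Nat.shiftRight p 5) 127) fun b2 =>
    Nat.land (Nat.shiftRight (Nat.land (Nat.shiftRight (Nat.land (Nat.shiftRight dL2_tr_T (Nat.mul b1 28672)) dL2_tr_M1) (Nat.mul b2 224)) dL2_tr_M2) (Nat.mul (Nat.land p 31) 7)) 127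

noncomputable def dL2 : LevD := ⟨2, 60, 3, 4, dL2_pt, dL2_pi, dL2_tr⟩

noncomputable def dL3_pt_T : Nat := dL3_pt_p0
noncomputable def dL3_pt_M1 : Nat := Nat.sub (Nat.shiftLeft 1 28672) 1
noncomputable def dL3_pt_M2 : Nat := Nat.sub (Nat.shiftLeft 1 224) 1
noncomputable def dL3_pt (p : Nat) : Nat :=
  force (Nat.shiftRight p 12) fun b1 => force (Nat.land (Nat.shiftRight p 5) 127) fun b2 =>
    Nat.land (Nat.shiftRight (Nat.land (Nat.shiftRight (Nat.land (Nat.shiftRight dL3_pt_T (Nat.mul b1 28672)) dL3_pt_M1) (Nat.mul b2 224)) dL3_pt_M2) (Nat.mul (Nat.land p 31) 7)) 127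

noncomputable def dL3_pi_T : Nat := dL3_pi_p0
noncomputable def dL3_pi_M1 : Nat := Nat.sub (Nat.shiftLeft 1 24576) 1
noncomputable def dL3_pi_M2 : Nat := Nat.sub (Nat.shiftLeft 1 192) 1
noncomputable def dL3_pi (p : Nat) : Nat :=
  force (Nat.shiftRight p 12) fun b1 => force (Nat.land (Nat.shiftRight p 5) 127) fun b2 =>
    Nat.land (Nat.shiftRight (Nat.land (Nat.shiftRight (Nat.land (Nat.shiftRight dL3_pi_T (Nat.mul b1 24576)) dL3_pi_M1) (Nat.mul b2 192)) dL3_pi_M2) (Nat.mul (Nat.land p 31) 6)) 63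

noncomputable def dL3_tr_T : Nat := dL3_tr_p0
noncomputable def dL3_tr_M1 : Nat := Nat.sub (Nat.shiftLeft 1 24576) 1
noncomputable def dL3_tr_M2 : Nat := Nat.sub (Nat.shiftLeft 1 192) 1
noncomputable def dL3_tr (p : Nat) : Nat :=
  force (Nat.shiftRight p 12) fun b1 => force (Nat.land (Nat.shiftRight p 5) 127) fun b2 =>
    Nat.land (Nat.shiftRight (Nat.land (Nat.shiftRight (Nat.land (Nat.shiftRight dL3_tr_T (Nat.mul b1 24576)) dL3_tr_M1) (Nat.mul b2 192)) dL3_tr_M2) (Nat.mul (Nat.land p 31) 6)) 63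

noncomputable def dL3 : LevD := ⟨3, 32, 2, 7, dL3_pt, dL3_pi, dL3_tr⟩

noncomputable def dL4_pt_T : Nat := dL4_pt_p0
noncomputable def dL4_pt_M1 : Nat := Nat.sub (Nat.shiftLeft 1 28672) 1
noncomputable def dL4_pt_M2 : Nat := Nat.sub (Nat.shiftLeft 1 224) 1
noncomputable def dL4_pt (p : Nat) : Nat :=
  force (Nat.shiftRight p 12) fun b1 => force (Nat.land (Nat.shiftRight p 5) 127) fun b2 =>
    Nat.land (Nat.shiftRight (Nat.land (Nat.shiftRight (Nat.land (Nat.shiftRight dL4_pt_T (Nat.mul b1 28672)) dL4_pt_M1) (Nat.mul b2 224)) dL4_pt_M2) (Nat.mul (Nat.land p 31) 7)) 127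

noncomputable def dL4_pi_T : Nat := dL4_pi_p0
noncomputable def dL4_pi_M1 : Nat := Nat.sub (Nat.shiftLeft 1 8192) 1
noncomputable def dL4_pi_M2 : Nat := Nat.sub (Nat.shiftLeft 1 64) 1
noncomputable def dL4_pi (p : Nat) : Nat :=
  force (Nat.shiftRight p 12) fun b1 => force (Nat.land (Nat.shiftRight p 5) 127) fun b2 =>
    Nat.land (Nat.shiftRight (Nat.land (Nat.shiftRight (Nat.land (Nat.shiftRight dL4_pi_T (Nat.mul b1 8192)) dL4_pi_M1) (Nat.mul b2 64)) dL4_pi_M2) (Nat.mul (Nat.land p 31) 2)) 3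

noncomputable def dL4_tr_T : Nat := dL4_tr_p0
noncomputable def dL4_tr_M1 : Nat := Nat.sub (Nat.shiftLeft 1 4096) 1
noncomputable def dL4_tr_M2 : Nat := Nat.sub (Nat.shiftLeft 1 32) 1
noncomputable def dL4_tr (p : Nat) : Nat :=
  force (Nat.shiftRight p 12) fun b1 => force (Nat.land (Nat.shiftRight p 5) 127) fun b2 =>
    Nat.land (Nat.shiftRight (Nat.land (Nat.shiftRight (Nat.land (Nat.shiftRight dL4_tr_T (Nat.mul b1 4096)) dL4_tr_M1) (Nat.mul b2 32)) dL4_tr_M2) (Nat.mul (Nat.land p 31) 1)) 1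

noncomputable def dL4 : LevD := ⟨4, 3, 2, 9, dL4_pt, dL4_pi, dL4_tr⟩

noncomputable def cL0_pt_T : Nat := cL0_pt_p0
noncomputable def cL0_pt_M1 : Nat := Nat.sub (Nat.shiftLeft 1 28672) 1
noncomputable def cL0_pt_M2 : Nat := Nat.sub (Nat.shiftLeft 1 224) 1
noncomputable def cL0_pt (p : Nat) : Nat :=
  force (Nat.shiftRight p 12) fun b1 => force (Nat.land (Nat.shiftRight p 5) 127) fun b2 =>
    Nat.land (Nat.shiftRight (Nat.land (Nat.shiftRight (Nat.land (Nat.shiftRight cL0_pt_T (Nat.mul b1 28672)) cL0_pt_M1) (Nat.mul b2 224)) cL0_pt_M2) (Nat.mul (Nat.land p 31) 7)) 127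

noncomputable def cL0_pi_T : Nat := cL0_pi_p0
noncomputable def cL0_pi_M1 : Nat := Nat.sub (Nat.shiftLeft 1 28672) 1
noncomputable def cL0_pi_M2 : Nat := Nat.sub (Nat.shiftLeft 1 224) 1
noncomputable def cL0_pi (p : Nat) : Nat :=
  force (Nat.shiftRight p 12) fun b1 => force (Nat.land (Nat.shiftRight p 5) 127) fun b2 =>
    Nat.land (Nat.shiftRight (Nat.land (Nat.shiftRight (Nat.land (Nat.shiftRight cL0_pi_T (Nat.mul b1 28672)) cL0_pi_M1) (Nat.mul b2 224)) cL0_pi_M2) (Nat.mul (Nat.land p 31) 7)) 127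

noncomputable def cL0_tr_T : Nat := cL0_tr_p0
noncomputable def cL0_tr_M1 : Nat := Nat.sub (Nat.shiftLeft 1 32768) 1
noncomputable def cL0_tr_M2 : Nat := Nat.sub (Nat.shiftLeft 1 256) 1
noncomputable def cL0_tr (p : Nat) : Nat :=
  force (Nat.shiftRight p 12) fun b1 => force (Nat.land (Nat.shiftRight p 5) 127) fun b2 =>
    Nat.land (Nat.shiftRight (Nat.land (Nat.shiftRight (Nat.land (Nat.shiftRight cL0_tr_T (Nat.mul b1 32768)) cL0_tr_M1) (Nat.mul b2 256)) cL0_tr_M2) (Nat.mul (Nat.land p 31) 8)) 255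

noncomputable def cL0 : LevD := ⟨0, 80, 2, 17, cL0_pt, cL0_pi, cL0_tr⟩

noncomputable def cL1_pt_T : Nat := cL1_pt_p0
noncomputable def cL1_pt_M1 : Nat := Nat.sub (Nat.shiftLeft 1 28672) 1
noncomputable def cL1_pt_M2 : Nat := Nat.sub (Nat.shiftLeft 1 224) 1
noncomputable def cL1_pt (p : Nat) : Nat :=
  force (Nat.shiftRight p 12) fun b1 => force (Nat.land (Nat.shiftRight p 5) 127) fun b2 =>
    Nat.land (Nat.shiftRight (Nat.land (Nat.shiftRight (Nat.land (Nat.shiftRight cL1_pt_T (Nat.mul b1 28672)) cL1_pt_M1) (Nat.mul b2 224)) cL1_pt_M2) (Nat.mul (Nat.land p 31) 7)) 127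

noncomputable def cL1_pi_T : Nat := cL1_pi_p0
noncomputable def cL1_pi_M1 : Nat := Nat.sub (Nat.shiftLeft 1 24576) 1
noncomputable def cL1_pi_M2 : Nat := Nat.sub (Nat.shiftLeft 1 192) 1
noncomputable def cL1_pi (p : Nat) : Nat :=
  force (Nat.shiftRight p 12) fun b1 => force (Nat.land (Nat.shiftRight p 5) 127) fun b2 =>
    Nat.land (Nat.shiftRight (Nat.land (Nat.shiftRight (Nat.land (Nat.shiftRight cL1_pi_T (Nat.mul b1 24576)) cL1_pi_M1) (Nat.mul b2 192)) cL1_pi_M2) (Nat.mul (Nat.land p 31) 6)) 63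

noncomputable def cL1_tr_T : Nat := cL1_tr_p0
noncomputable def cL1_tr_M1 : Nat := Nat.sub (Nat.shiftLeft 1 28672) 1
noncomputable def cL1_tr_M2 : Nat := Nat.sub (Nat.shiftLeft 1 224) 1
noncomputable def cL1_tr (p : Nat) : Nat :=
  force (Nat.shiftRight p 12) fun b1 => force (Nat.land (Nat.shiftRight p 5) 127) fun b2 =>
    Nat.land (Nat.shiftRight (Nat.land (Nat.shiftRight (Nat.land (Nat.shiftRight cL1_tr_T (Nat.mul b1 28672)) cL1_tr_M1) (Nat.mul b2 224)) cL1_tr_M2) (Nat.mul (Nat.land p 31) 7)) 127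

noncomputable def cL1 : LevD := ⟨1, 32, 4, 19, cL1_pt, cL1_pi, cL1_tr⟩

noncomputable def cL2_pt_T : Nat := cL2_pt_p0
noncomputable def cL2_pt_M1 : Nat := Nat.sub (Nat.shiftLeft 1 28672) 1
noncomputable def cL2_pt_M2 : Nat := Nat.sub (Nat.shiftLeft 1 224) 1
noncomputable def cL2_pt (p : Nat) : Nat :=
  force (Nat.shiftRight p 12) fun b1 => force (Nat.land (Nat.shiftRight p 5) 127) fun b2 =>
    Nat.land (Nat.shiftRight (Nat.land (Nat.shiftRight (Nat.land (Nat.shiftRight cL2_pt_T (Nat.mul b1 28672)) cL2_pt_M1) (Nat.mul b2 224)) cL2_pt_M2) (Nat.mul (Nat.land p 31) 7)) 127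

noncomputable def cL2_pi_T : Nat := cL2_pi_p0
noncomputable def cL2_pi_M1 : Nat := Nat.sub (Nat.shiftLeft 1 8192) 1
noncomputable def cL2_pi_M2 : Nat := Nat.sub (Nat.shiftLeft 1 64) 1
noncomputable def cL2_pi (p : Nat) : Nat :=
  force (Nat.shiftRight p 12) fun b1 => force (Nat.land (Nat.shiftRight p 5) 127) fun b2 =>
    Nat.land (Nat.shiftRight (Nat.land (Nat.shiftRight (Nat.land (Nat.shiftRight cL2_pi_T (Nat.mul b1 8192)) cL2_pi_M1) (Nat.mul b2 64)) cL2_pi_M2) (Nat.mul (Nat.land p 31) 2)) 3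

noncomputable def cL2_tr_T : Nat := cL2_tr_p0
noncomputable def cL2_tr_M1 : Nat := Nat.sub (Nat.shiftLeft 1 4096) 1
noncomputable def cL2_tr_M2 : Nat := Nat.sub (Nat.shiftLeft 1 32) 1
noncomputable def cL2_tr (p : Nat) : Nat :=
  force (Nat.shiftRight p 12) fun b1 => force (Nat.land (Nat.shiftRight p 5) 127) fun b2 =>
    Nat.land (Nat.shiftRight (Nat.land (Nat.shiftRight (Nat.land (Nat.shiftRight cL2_tr_T (Nat.mul b1 4096)) cL2_tr_M1) (Nat.mul b2 32)) cL2_tr_M2) (Nat.mul (Nat.land p 31) 1)) 1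

noncomputable def cL2 : LevD := ⟨4, 3, 2, 23, cL2_pt, cL2_pi, cL2_tr⟩

noncomputable def ds : List LevD := [dL0, dL1, dL2, dL3, dL4]
noncomputable def cs : List LevD := [cL0, cL1, cL2]

noncomputable def FPL_T : Nat := (Nat.lor (Nat.lor FPL_p0 (Nat.shiftLeft (Nat.lor FPL_p1 (Nat.shiftLeft FPL_p2 16000)) 16000)) (Nat.shiftLeft (Nat.lor FPL_p3 (Nat.shiftLeft (Nat.lor FPL_p4 (Nat.shiftLeft FPL_p5 16000)) 16000)) 48000))
noncomputable def FPL_M1 : Nat := Nat.sub (Nat.shiftLeft 1 65536) 1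
noncomputable def FPL_M2 : Nat := Nat.sub (Nat.shiftLeft 1 512) 1
noncomputable def FPL (p : Nat) : Nat :=
  force (Nat.shiftRight p 12) fun b1 => force (Nat.land (Nat.shiftRight p 5) 127) fun b2 =>
    Nat.land (Nat.shiftRight (Nat.land (Nat.shiftRight (Nat.land (Nat.shiftRight FPL_T (Nat.mul b1 65536)) FPL_M1) (Nat.mul b2 512)) FPL_M2) (Nat.mul (Nat.land p 31) 16)) 65535

noncomputable def DD : Frs := ⟨1, 5080, FPL, 8, 33, 6, 5775, [34, 66, 13, 95, 44]⟩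

noncomputable def SPK_T : Nat := SPK_p0
noncomputable def SPK_M1 : Nat := Nat.sub (Nat.shiftLeft 1 86016) 1
noncomputable def SPK_M2 : Nat := Nat.sub (Nat.shiftLeft 1 672) 1
noncomputable def SPK (p : Nat) : Nat :=
  force (Nat.shiftRight p 12) fun b1 => force (Nat.land (Nat.shiftRight p 5) 127) fun b2 =>
    Nat.land (Nat.shiftRight (Nat.land (Nat.shiftRight (Nat.land (Nat.shiftRight SPK_T (Nat.mul b1 86016)) SPK_M1) (Nat.mul b2 672)) SPK_M2) (Nat.mul (Nat.land p 31) 21)) 2097151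

noncomputable def SCN_T : Nat := SCN_p0
noncomputable def SCN_M1 : Nat := Nat.sub (Nat.shiftLeft 1 32768) 1
noncomputable def SCN_M2 : Nat := Nat.sub (Nat.shiftLeft 1 256) 1
noncomputable def SCN (p : Nat) : Nat :=
  force (Nat.shiftRight p 12) fun b1 => force (Nat.land (Nat.shiftRight p 5) 127) fun b2 =>
    Nat.land (Nat.shiftRight (Nat.land (Nat.shiftRight (Nat.land (Nat.shiftRight SCN_T (Nat.mul b1 32768)) SCN_M1) (Nat.mul b2 256)) SCN_M2) (Nat.mul (Nat.land p 31) 8)) 255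

noncomputable def WPT_T : Nat := WPT_p0
noncomputable def WPT_M1 : Nat := Nat.sub (Nat.shiftLeft 1 28672) 1
noncomputable def WPT_M2 : Nat := Nat.sub (Nat.shiftLeft 1 224) 1
noncomputable def WPT (p : Nat) : Nat :=
  force (Nat.shiftRight p 12) fun b1 => force (Nat.land (Nat.shiftRight p 5) 127) fun b2 =>
    Nat.land (Nat.shiftRight (Nat.land (Nat.shiftRight (Nat.land (Nat.shiftRight WPT_T (Nat.mul b1 28672)) WPT_M1) (Nat.mul b2 224)) WPT_M2) (Nat.mul (Nat.land p 31) 7)) 127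

noncomputable def WPI_T : Nat := WPI_p0
noncomputable def WPI_M1 : Nat := Nat.sub (Nat.shiftLeft 1 20480) 1
noncomputable def WPI_M2 : Nat := Nat.sub (Nat.shiftLeft 1 160) 1
noncomputable def WPI (p : Nat) : Nat :=
  force (Nat.shiftRight p 12) fun b1 => force (Nat.land (Nat.shiftRight p 5) 127) fun b2 =>
    Nat.land (Nat.shiftRight (Nat.land (Nat.shiftRight (Nat.land (Nat.shiftRight WPI_T (Nat.mul b1 20480)) WPI_M1) (Nat.mul b2 160)) WPI_M2) (Nat.mul (Nat.land p 31) 5)) 31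

def sqL : List Nat := [0, 1, 0, 4, 12, 0, 32, 32, 0]
def wlL : List Nat := [0, 0, 1, 1, 1, 2, 2, 2, 2]
def wsL : List Nat := [1, 2, 1, 2, 4, 1, 2, 4, 8]
def wbL : List Nat := [2, 1, 0]
def wmL : List Nat := [4, 8, 16]
noncomputable def SS : PcD where
  off := 41
  a := 9
  sq := fun k => sqL.getD k 0
  cn := SCN
  wl := fun k => wlL.getD k 0
  ws := fun k => wsL.getD k 0
  wb := fun k => wbL.getD k 0
  wpt := fun l i => WPT (Nat.add (Nat.mul l 16) i)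
  wpi := fun l q => WPI (Nat.add (Nat.mul l 100) q)
  wm := fun k => wmL.getD k 0
  lv := 3
  pk := SPK

noncomputable def OPL0_T : Nat := (Nat.lor (Nat.lor OPL0_p0 (Nat.shiftLeft (Nat.lor OPL0_p1 (Nat.shiftLeft OPL0_p2 16000)) 16000)) (Nat.shiftLeft (Nat.lor OPL0_p3 (Nat.shiftLeft (Nat.lor OPL0_p4 (Nat.shiftLeft OPL0_p5 16000)) 16000)) 48000))
noncomputable def OPL0_M1 : Nat := Nat.sub (Nat.shiftLeft 1 65536) 1
noncomputable def OPL0_M2 : Nat := Nat.sub (Nat.shiftLeft 1 512) 1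
noncomputable def OPL0 (p : Nat) : Nat :=
  force (Nat.shiftRight p 12) fun b1 => force (Nat.land (Nat.shiftRight p 5) 127) fun b2 =>
    Nat.land (Nat.shiftRight (Nat.land (Nat.shiftRight (Nat.land (Nat.shiftRight OPL0_T (Nat.mul b1 65536)) OPL0_M1) (Nat.mul b2 512)) OPL0_M2) (Nat.mul (Nat.land p 31) 16)) 65535

noncomputable def OO0 : Frs := ⟨51, 3264, OPL0, 8, 33, 5, 5777, [5, 52, 19, 1, 26]⟩

noncomputable def Os : List Frs := [OO0]

def wdsL : List (List Nat) := [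
  [],
  [9, 7, 7, 8, 4, 6, 4, 5, 2, 2, 2, 3, 0, 0, 0, 1, 0, 0, 0, 0],
  [8, 8, 7, 8, 7, 4, 6, 4, 5, 3, 2, 2, 2, 0, 0, 0, 1, 0, 0, 0, 1]]
def wds (j : Nat) : List Nat := wdsL.getD j []

def Bs : List Nat := [0, 1, 2, 3, 4]

def rs : List (List Bool × Nat × Nat) := [([true, false], 5, 7),
  ([true, true, true, true, true, false, true, true, true, true, true, false], 3, 5),
  ([true, true, true, true, false, true, true, false], 4, 95),
  ([true, true, false, true, true, true, true, false], 4, 20),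
  ([true, false, true, true, false, true, true, true, true, false], 8, 38)]

def goods : List (Nat × Nat) := [(5080, 0), (1032, 1), (375, 2), (2671, 3), (2535, 4), (1347, 5), (271, 6), (1994, 7), (430, 8), (5665, 9), (5354, 10)]

def goodIdx : List Nat := goods.map Prod.fst


end Cfsg.Agent.Lib.PermComp.OutP.HSo
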